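import Groth.Prelude.Def_RelSpec2
import Groth.Agent.SiteBase.ModColim
import Groth.Agent.KFlatLib.Scheme.PushCoprod
import Groth.Agent.QcqsColim.Rpush
import Groth.Agent.QCoh.RpushAbGod
import Mathlib.CategoryTheory.Limits.Preserves.Filtered
import Mathlib.CategoryTheory.Limits.Preserves.Shapes.Products

/-!
# Direct images as modules over the direct-image algebra commute with colimits
-/

universe u

open CategoryTheory CategoryTheory.Limits AlgebraicGeometry TopologicalSpace Opposite

set_option backward.isDefEq.respectTransparency false
set_option backward.isDefEq.respectTransparency.types false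
set_option linter.style.haveILetI false

noncomputable section

namespace Groth.Agent.AModColim

open Groth.Agent

variable {X S : Scheme.{u}} (f : X ⟶ S) [QuasiCompact f] [QuasiSeparated f]

theorem preservesColimitsOfShape_dirImg_of (K : Type u) [SmallCategory K]
    [PreservesColimitsOfShape K (Scheme.Modules.pushforward f ⋙ SheafOfModules.toSheaf S.ringCatSheaf)] :
    PreservesColimitsOfShape K (AMod.dirImg f) := by
  let B := RelSpec.QCAlg.directImage f
  let H : AMod B ⥤ _ := SheafOfModules.toSheaf.{u} (AMod.ringSheaf B)
  haveI := SiteBase.preservesColimitsOfSize_toSheaf (AMod.ringSheaf B)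
  haveI : ReflectsColimitsOfSize.{u, u} H := reflectsColimits_of_reflectsIsomorphisms
  haveI : PreservesColimitsOfShape K (AMod.dirImg f ⋙ H) :=
    inferInstanceAs (PreservesColimitsOfShape K (Scheme.Modules.pushforward f ⋙ SheafOfModules.toSheaf S.ringCatSheaf))
  exact preservesColimitsOfShape_of_reflects_of_preserves (AMod.dirImg f) H

theorem preservesColimitsOfShape_dirImg_discrete (ι : Type u) :
    PreservesColimitsOfShape (Discrete ι) (AMod.dirImg f) := by
  haveI := KFlatLib.preservesColimitsOfShape_push_discrete (J := ι) f
  haveI := SiteBase.preservesColimitsOfSize_toSheaf S.ringCatSheaf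
  haveI : PreservesColimitsOfShape (Discrete ι) (Scheme.Modules.pushforward f ⋙ SheafOfModules.toSheaf S.ringCatSheaf) :=
    comp_preservesColimitsOfShape _ _
  exact preservesColimitsOfShape_dirImg_of f _

theorem preservesColimitsOfShape_dirImg_filtered (K : Type u) [SmallCategory K] [IsFiltered K] :
    PreservesColimitsOfShape K (AMod.dirImg f) := by
  haveI := QcqsColim.preservesColimitsOfShape_RpushAb f 0 K
  haveI := QCoh.preservesFiniteLimits_pushAb f
  haveI : PreservesColimitsOfShape K (Coh.pushAb f) :=
    preservesColimitsOfShape_of_natIso (Coh.pushAb f).rightDerivedZeroIsoSelf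
  haveI := SiteBase.preservesColimitsOfSize_toSheaf X.ringCatSheaf
  haveI : PreservesColimitsOfShape K (Scheme.Modules.pushforward f ⋙ SheafOfModules.toSheaf S.ringCatSheaf) :=
    inferInstanceAs (PreservesColimitsOfShape K (SheafOfModules.toSheaf X.ringCatSheaf ⋙ Coh.pushAb f))
  exact preservesColimitsOfShape_dirImg_of f _

end Groth.Agent.AModColim
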